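import Mathlib
import Cfsg.Prelude.Def_Transfer
import Cfsg.Agent.Transfer.NPC

/-!
# Abelian Sylow subgroups of small order: when does Burnside's theorem apply
-/

set_option autoImplicit false

namespace Cfsg.Agent.Transfer

open Subgroup

variable {G : Type*} [Group G] {p : ℕ}

/-- If `P` is an abelian Sylow `p`-subgroup not central in its normalizer, then for some prime `q ≠ p`
dividing `|G|` a proper subgroup `F` of `P` (the fixed points of a `q`-group) satisfies `|P| ≡ |F| mod q`. -/
theorem exists_prime_modEq_of_not_le_centralizer [Fact p.Prime] [Finite G] (P : Sylow p G)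
    (hP : IsMulCommutative P) (h : ¬ normalizer (P : Set G) ≤ centralizer (P : Set G)) :
    ∃ q : ℕ, q.Prime ∧ q ≠ p ∧ q ∣ Nat.card G ∧ ∃ F : Subgroup P, F ≠ ⊤ ∧
      Nat.card P ≡ Nat.card F [MOD q] := by
  let N : Subgroup G := normalizer ((P : Subgroup G) : Set G)
  set C := (centralizer (P : Set G)).subgroupOf N with hC
  let actN : MulDistribMulAction N (P : Subgroup G) :=
    inferInstanceAs (MulDistribMulAction (normalizer ((P : Subgroup G) : Set G) : Subgroup G)
      (P : Subgroup G))
  have hCi : C.index ≠ 1 := by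
    intro h1
    rw [index_eq_one, hC, subgroupOf_eq_top] at h1
    exact h h1
  obtain ⟨q, hq, hqi⟩ := Nat.exists_prime_and_dvd hCi
  have : Fact q.Prime := ⟨hq⟩
  have hqG : q ∣ Nat.card G := by
    have h1 : C.index ∣ Nat.card G := by
      rw [hC]
      exact (relIndex_dvd_card _ _).trans (card_subgroup_dvd_card N)
    exact hqi.trans h1
  have hPC : (P : Subgroup G) ≤ centralizer (P : Set G) := P.le_centralizer
  have hqp : q ≠ p := by
    rintro rfl
    have h1 : C.index ∣ (P : Subgroup G).index := by
      have h2 : C.index = (centralizer (P : Set G)).relIndex N := rfl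
      rw [h2]
      refine (relIndex_dvd_of_le_left N hPC).trans ?_
      exact relIndex_dvd_index_of_le P.le_normalizer
    exact P.not_dvd_index (hqi.trans h1)
  let Q : Sylow q N := default
  let F : Subgroup P :=
    { carrier := {x | ∀ n ∈ Q, n • x = x}
      one_mem' := fun n _ => smul_one n
      mul_mem' := fun {a b} ha hb n hn => by rw [smul_mul', ha n hn, hb n hn]
      inv_mem' := fun {a} ha n hn => by rw [smul_inv', ha n hn] }
  refine ⟨q, hq, hqp, hqG, F, ?_, ?_⟩
  · intro hF
    -- then Q ≤ C
    have h1 : (Q : Subgroup N) ≤ C := by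
      intro n hn
      rw [hC, mem_subgroupOf, mem_centralizer_iff]
      intro x hx
      have h2 : (⟨x, hx⟩ : P) ∈ F := by rw [hF]; trivial
      have h3 := congrArg Subtype.val (h2 n hn)
      change (n : G) * x * (n : G)⁻¹ = x at h3
      have h4 := congrArg (· * (n : G)) h3
      simpa using h4.symm
    exact Q.not_dvd_index (hqi.trans (index_dvd_of_le h1))
  · have h1 := Q.2.card_modEq_card_fixedPoints (P : Subgroup G)
    have h2 : Nat.card (MulAction.fixedPoints (Q : Subgroup N) (P : Subgroup G)) = Nat.card F := by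
      apply Nat.card_congr
      refine Equiv.subtypeEquivRight ?_
      intro x
      constructor
      · intro hx n hn
        exact hx ⟨n, hn⟩
      · rintro hx ⟨n, hn⟩
        exact hx n hn
    rw [h2] at h1
    exact h1

/-- Burnside for Sylow subgroups of order `p`: if `gcd(p - 1, |G|) = 1` in the sense that no prime
divisor of `|G|` divides `p - 1`, then `G` has a normal `p`-complement. -/
theorem hasNPC_of_card_eq_prime [Fact p.Prime] [Finite G] (P : Sylow p G)
    (hP : Nat.card P = p) (h : ∀ q : ℕ, q.Prime → q ∣ Nat.card G → q ≠ p → ¬ q ∣ p - 1) :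
    Cfsg.HasNormalPComplement p G := by
  have hp : p.Prime := Fact.out
  have hcyc : IsCyclic P := isCyclic_of_prime_card hP
  have hcomm : IsMulCommutative P := inferInstance
  by_contra hn
  have h1 : ¬ normalizer (P : Set G) ≤ centralizer (P : Set G) := fun h' =>
    hn (hasNPC_of_normalizer_le_centralizer P h')
  obtain ⟨q, hq, hqp, hqG, F, hF, hmod⟩ := exists_prime_modEq_of_not_le_centralizer P hcomm h1
  have h2 : Nat.card F ∣ p := (card_subgroup_dvd_card F).trans (dvd_of_eq hP)
  rcases (Nat.dvd_prime hp).1 h2 with h3 | h3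
  · rw [h3, hP] at hmod
    apply h q hq hqG hqp
    exact (Nat.modEq_iff_dvd' hp.one_le).1 hmod.symm
  · apply hF
    apply Subgroup.eq_top_of_card_eq
    rw [h3]; exact hP.symm

/-- Burnside for Sylow subgroups of order `p ^ 2`. -/
theorem hasNPC_of_card_eq_prime_sq [Fact p.Prime] [Finite G] (P : Sylow p G)
    (hP : Nat.card P = p ^ 2)
    (h : ∀ q : ℕ, q.Prime → q ∣ Nat.card G → q ≠ p → ¬ q ∣ p - 1 ∧ ¬ q ∣ p + 1) :
    Cfsg.HasNormalPComplement p G := by
  have hp : p.Prime := Fact.out
  have hcomm : IsMulCommutative P := IsPGroup.isMulCommutative_of_card_eq_prime_sq hP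
  by_contra hn
  have h1 : ¬ normalizer (P : Set G) ≤ centralizer (P : Set G) := fun h' =>
    hn (hasNPC_of_normalizer_le_centralizer P h')
  obtain ⟨q, hq, hqp, hqG, F, hF, hmod⟩ := exists_prime_modEq_of_not_le_centralizer P hcomm h1
  have h2 : Nat.card F ∣ p ^ 2 := (card_subgroup_dvd_card F).trans (dvd_of_eq hP)
  obtain ⟨k, hk, h3⟩ := (Nat.dvd_prime_pow hp).1 h2
  rw [h3, hP] at hmod
  interval_cases k
  · -- q ∣ p ^ 2 - 1
    have h4 : q ∣ p ^ 2 - p ^ 0 := (Nat.modEq_iff_dvd' (Nat.pow_le_pow_right hp.pos (by norm_num))).1 hmod.symm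
    have h5 : p ^ 2 - p ^ 0 = (p + 1) * (p - 1) := by
      rw [pow_zero, ← Nat.sq_sub_sq, one_pow]
    rw [h5] at h4
    rcases hq.dvd_mul.1 h4 with h6 | h6
    · exact (h q hq hqG hqp).2 h6
    · exact (h q hq hqG hqp).1 h6
  · have h4 : q ∣ p ^ 2 - p ^ 1 := (Nat.modEq_iff_dvd' (Nat.pow_le_pow_right hp.pos (by norm_num))).1 hmod.symm
    have h5 : p ^ 2 - p ^ 1 = p * (p - 1) := by
      rw [pow_one, pow_two, Nat.mul_sub, mul_one]
    rw [h5] at h4
    rcases hq.dvd_mul.1 h4 with h6 | h6
    · exact hqp ((Nat.prime_dvd_prime_iff_eq hq hp).1 h6)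
    · exact (h q hq hqG hqp).1 h6
  · apply hF
    apply Subgroup.eq_top_of_card_eq
    rw [h3]; exact hP.symm

/-- A nonabelian finite simple group has no normal `p`-complement for a prime `p` dividing its order. -/
theorem not_hasNPC_of_isSimpleGroup [Fact p.Prime] [Finite G] [IsSimpleGroup G]
    (hG : ∃ x y : G, x * y ≠ y * x) (hp : p ∣ Nat.card G) : ¬ Cfsg.HasNormalPComplement p G := by
  intro h
  have hpp : p.Prime := Fact.out
  obtain ⟨N, hN, h1, k, h2⟩ := hasNPC_iff_exists.1 h
  rcases hN.eq_bot_or_eq_top with h3 | h3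
  · rw [h3, index_bot] at h2
    have hpG : IsPGroup p G := IsPGroup.of_card h2
    have hnil : Group.IsNilpotent G := hpG.isNilpotent
    have hcomm : CommGroup G := inferInstance
    have hc : center G = ⊤ := by
      rcases (inferInstance : (center G).Normal).eq_bot_or_eq_top with h4 | h4
      · exfalso
        exact Group.IsNilpotent.center_ne_bot G h4
      · exact h4
    obtain ⟨x, y, hxy⟩ := hG
    apply hxy
    have : y ∈ center G := by rw [hc]; trivial
    exact (mem_center_iff.1 this x)
  · rw [h3] at h1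
    rw [card_top] at h1
    exact hpp.ne_one (Nat.Coprime.eq_one_of_dvd (h1.symm) hp)

end Cfsg.Agent.Transfer
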