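import Mathlib
import Cfsg.Prelude.Def_Transfer
import Cfsg.Agent.Transfer.Fusion

/-!
# Tate's theorem (a normal subgroup meeting `P` inside `Φ(P)` has a normal `p`-complement)
-/

set_option autoImplicit false

namespace Cfsg.Agent.Transfer

open Subgroup

open scoped Pointwise commutatorElement

variable {G : Type*} [Group G] {p : ℕ}

theorem tate_aux [Fact p.Prime] [Finite G] (P : Sylow p G) (K : Subgroup G) [hKn : K.Normal]
    (hK : Cfsg.pResidual p K = ⊤) (hΦ : K.subgroupOf (P : Subgroup G) ≤ frattini P) :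
    (P : Subgroup G) ⊓ K = ⊥ := by
  classical
  set Q : Subgroup P := K.subgroupOf (P : Subgroup G) with hQ
  have hQn : Q.Normal := by rw [hQ]; infer_instance
  set S : Subgroup P := ⁅Q, (⊤ : Subgroup P)⁆ with hS
  have hSn : S.Normal := by rw [hS]; infer_instance
  set π : P →* P ⧸ S := QuotientGroup.mk' S with hπ
  have hπs : Function.Surjective π := QuotientGroup.mk'_surjective S
  set A : Subgroup (P ⧸ S) := Q.map π with hA
  have hAc : A ≤ center (P ⧸ S) := by
    rintro _ ⟨q, hq, rfl⟩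
    rw [mem_center_iff]
    intro y
    obtain ⟨x, rfl⟩ := hπs y
    rw [← map_mul, ← map_mul, hπ, QuotientGroup.mk'_apply, QuotientGroup.mk'_apply,
      QuotientGroup.eq]
    have h1 : ⁅q⁻¹, x⁻¹⁆ ∈ S := commutator_mem_commutator (inv_mem hq) (mem_top _)
    rw [commutatorElement_def] at h1
    have e : (x * q)⁻¹ * (q * x) = q⁻¹ * x⁻¹ * q⁻¹⁻¹ * x⁻¹⁻¹ := by group
    rw [e]; exact h1
  have hAΦ : A ≤ frattini (P ⧸ S) := by
    rw [hA, Subgroup.map_le_iff_le_comap]
    exact hΦ.trans (frattini_le_comap_frattini_of_surjective hπs)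
  let _ : CommGroup A := { (inferInstance : Group A) with
    mul_comm := fun a b => Subtype.ext ((mem_center_iff.1 (hAc b.2)) a) }
  -- the central extension
  let E : Subgroup (G × (P ⧸ S)) :=
    { carrier := {e | ∃ x : P, e.2 = π x ∧ e.1⁻¹ * (x : G) ∈ K}
      one_mem' := ⟨1, by simp, by simp⟩
      mul_mem' := by
        rintro ⟨g, y⟩ ⟨g', y'⟩ ⟨x, hx, hxK⟩ ⟨x', hx', hxK'⟩
        refine ⟨x * x', ?_, ?_⟩
        · simp only at hx hx'
          simp [hx, hx']
        · have e : (g * g')⁻¹ * ((x * x' : P) : G) =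
              (g'⁻¹ * x') * ((x' : G)⁻¹ * (g⁻¹ * x) * (x' : G)) := by
            change (g * g')⁻¹ * ((x : G) * (x' : G)) = _; group
          change (g * g')⁻¹ * ((x * x' : P) : G) ∈ K
          rw [e]
          refine mul_mem hxK' ?_
          have := hKn.conj_mem _ hxK (x' : G)⁻¹
          simpa using this
      inv_mem' := by
        rintro ⟨g, y⟩ ⟨x, hx, hxK⟩
        refine ⟨x⁻¹, ?_, ?_⟩
        · simp only at hx
          simp [hx]
        · have e : ((g⁻¹)⁻¹ * ((x⁻¹ : P) : G)) = g * (g⁻¹ * (x : G))⁻¹ * g⁻¹ := by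
            change (g⁻¹)⁻¹ * (x : G)⁻¹ = _; group
          change ((g⁻¹)⁻¹ * ((x⁻¹ : P) : G)) ∈ K
          rw [e]
          exact hKn.conj_mem _ (inv_mem hxK) g }
  have hE : ∀ (g : G) (y : P ⧸ S), (g, y) ∈ E ↔ ∃ x : P, y = π x ∧ g⁻¹ * (x : G) ∈ K :=
    fun g y => Iff.rfl
  let f : E →* G := (MonoidHom.fst G (P ⧸ S)).comp E.subtype
  let s : E →* P ⧸ S := (MonoidHom.snd G (P ⧸ S)).comp E.subtype
  let U : Subgroup E := (P : Subgroup G).comap f
  have hPf : (P : Subgroup G) ≤ f.range := by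
    intro x hx
    exact ⟨⟨(x, π ⟨x, hx⟩), ⟨⟨x, hx⟩, rfl, by simp⟩⟩, rfl⟩
  have hUi : U.index.Coprime p := by
    have h1 : U.index = (P : Subgroup G).relIndex f.range := index_comap _ f
    rw [h1]
    exact Nat.Coprime.coprime_dvd_left (relIndex_dvd_index_of_le hPf) (coprime_index_sylow P)
  -- the homomorphism on `U`
  have hψ : ∀ u : U, (π ⟨(u : E).1.1, u.2⟩)⁻¹ * (u : E).1.2 ∈ A := by
    rintro ⟨⟨⟨g, y⟩, x, hx, hxK⟩, hg⟩
    simp only at hx hxK
    change g ∈ (P : Subgroup G) at hg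
    refine ⟨⟨g, hg⟩⁻¹ * x, ?_, ?_⟩
    · change _ ∈ K.subgroupOf (P : Subgroup G)
      rw [mem_subgroupOf]
      simpa using hxK
    · change _ = (π ⟨g, hg⟩)⁻¹ * y
      rw [hx, map_mul, map_inv]
  let ψ : U →* A :=
    { toFun := fun u => ⟨_, hψ u⟩
      map_one' := by
        ext
        change (π (1 : P))⁻¹ * (1 : P ⧸ S) = 1
        rw [map_one, inv_one, one_mul]
      map_mul' := by
        intro u v
        ext
        have e1 : (⟨((u * v : U) : E).1.1, (u * v).2⟩ : P) =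
          ⟨(u : E).1.1, u.2⟩ * ⟨(v : E).1.1, v.2⟩ := rfl
        have hc := (mem_center_iff.1 (hAc (hψ u)))
        change (π ⟨((u * v : U) : E).1.1, (u * v).2⟩)⁻¹ * ((u : E).1.2 * (v : E).1.2) =
          ((π ⟨(u : E).1.1, u.2⟩)⁻¹ * (u : E).1.2) * ((π ⟨(v : E).1.1, v.2⟩)⁻¹ * (v : E).1.2)
        rw [e1, map_mul, mul_inv_rev]
        have := hc ((π ⟨(v : E).1.1, v.2⟩)⁻¹)
        calc (π ⟨(v : E).1.1, v.2⟩)⁻¹ * (π ⟨(u : E).1.1, u.2⟩)⁻¹ * ((u : E).1.2 * (v : E).1.2)
            = ((π ⟨(v : E).1.1, v.2⟩)⁻¹ * ((π ⟨(u : E).1.1, u.2⟩)⁻¹ * (u : E).1.2)) * (v : E).1.2 := by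
              group
          _ = _ := by rw [this]; group }
  have hfin : Finite E := inferInstance
  have hUfi : U.FiniteIndex := inferInstance
  let V : E →* A := MonoidHom.transfer ψ
  -- elements `(1, a)`
  have hZE : ∀ a : A, ((1 : G), (a : P ⧸ S)) ∈ E := by
    rintro ⟨_, q, hq, rfl⟩
    refine ⟨q, rfl, ?_⟩
    have : q ∈ K.subgroupOf (P : Subgroup G) := hq
    rw [mem_subgroupOf] at this
    simpa using this
  have hVZ : ∀ a : A, V ⟨(1, (a : P ⧸ S)), hZE a⟩ = a ^ U.index := by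
    intro a
    have hcen : ∀ e : E, (⟨(1, (a : P ⧸ S)), hZE a⟩ : E) * e = e * ⟨(1, (a : P ⧸ S)), hZE a⟩ := by
      rintro ⟨⟨g, y⟩, he⟩
      ext
      · simp
      · exact ((mem_center_iff.1 (hAc a.2)) y).symm
    have h1 := MonoidHom.transfer_eq_pow ψ (⟨(1, (a : P ⧸ S)), hZE a⟩ : E) (by
      intro k g₀ _
      have : Commute (⟨(1, (a : P ⧸ S)), hZE a⟩ : E) g₀ := hcen g₀
      rw [mul_assoc, (this.pow_left k).eq, inv_mul_cancel_left])
    change V _ = _ at h1
    rw [h1]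
    have hmem : (⟨(1, (a : P ⧸ S)), hZE a⟩ : E) ∈ U := by
      change (1 : G) ∈ (P : Subgroup G)
      exact one_mem _
    have h2 : (⟨(⟨(1, (a : P ⧸ S)), hZE a⟩ : E) ^ U.index, MonoidHom.transfer_eq_pow_aux _ (by
      intro k g₀ _
      have : Commute (⟨(1, (a : P ⧸ S)), hZE a⟩ : E) g₀ := hcen g₀
      rw [mul_assoc, (this.pow_left k).eq, inv_mul_cancel_left])⟩ : U) =
        (⟨⟨(1, (a : P ⧸ S)), hZE a⟩, hmem⟩ : U) ^ U.index := by
      ext <;> rfl
    rw [h2, map_pow]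
    congr 1
    ext
    change (π ⟨1, _⟩)⁻¹ * (a : P ⧸ S) = a
    have : (⟨1, hmem⟩ : P) = 1 := rfl
    rw [this, map_one, inv_one, one_mul]
  have hAp : IsPGroup p A := (P.2.to_quotient S).to_subgroup A
  have hcopA : (Nat.card A).Coprime U.index := by
    obtain ⟨k, hk⟩ := IsPGroup.iff_card.1 hAp
    rw [hk]
    exact (hUi.pow_right k).symm
  -- `T` is everything
  have hT : (V.ker.map s) ⊔ frattini (P ⧸ S) = ⊤ := by
    rw [eq_top_iff]
    intro y _
    obtain ⟨x, rfl⟩ := hπs y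
    have hxE : ((x : G), π x) ∈ E := ⟨x, rfl, by simp⟩
    obtain ⟨b, hb⟩ := (powCoprime hcopA).surjective (V ⟨_, hxE⟩)
    simp only [powCoprime_apply] at hb
    have h1 : (⟨(1, (b : P ⧸ S)), hZE b⟩ : E)⁻¹ * ⟨_, hxE⟩ ∈ V.ker := by
      rw [MonoidHom.mem_ker, map_mul, map_inv, hVZ, ← hb, inv_mul_cancel]
    have h2 : (b : P ⧸ S)⁻¹ * π x ∈ V.ker.map s := ⟨_, h1, rfl⟩
    have e : π x = ((b : P ⧸ S)⁻¹ * π x) * (b : P ⧸ S) := by
      have := (mem_center_iff.1 (hAc b.2)) (π x)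
      rw [mul_assoc, this]; group
    rw [e]
    exact mul_mem_sup h2 (hAΦ b.2)
  have hT' : V.ker.map s = ⊤ := frattini_nongenerating hT
  -- `(k, 1)` is in the kernel
  have hKE : ∀ k : K, ((k : G), (1 : P ⧸ S)) ∈ E := by
    intro k
    exact ⟨1, by simp, by simp⟩
  let κ : K →* E :=
    { toFun := fun k => ⟨((k : G), 1), hKE k⟩
      map_one' := rfl
      map_mul' := by intro a b; ext <;> simp }
  have hκ : ∀ k : K, V (κ k) = 1 := by
    intro k
    have := pResidual_le_ker (p := p) (V.comp κ) hAp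
    rw [hK] at this
    exact this (mem_top k)
  have hAbot : A = ⊥ := by
    rw [eq_bot_iff]
    intro y hy
    have h1 : y ∈ V.ker.map s := by rw [hT']; trivial
    obtain ⟨⟨⟨g, y'⟩, hw⟩, hwV, rfl⟩ := h1
    change y' ∈ A at hy
    change y' ∈ (⊥ : Subgroup (P ⧸ S))
    obtain ⟨x, hx, hxK⟩ := hw
    simp only at hx hxK
    -- `x ∈ Q`
    have hxQ : x ∈ Q := by
      obtain ⟨q, hq, e⟩ := hy
      rw [hx] at e
      have h3 : q⁻¹ * x ∈ S := by
        rw [hπ, QuotientGroup.mk'_apply, QuotientGroup.mk'_apply, QuotientGroup.eq] at e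
        exact e
      have h4 : S ≤ Q := commutator_le_left _ _
      have := mul_mem hq (h4 h3)
      simpa using this
    have hgK : g ∈ K := by
      have h5 : (x : G) ∈ K := hxQ
      have e : g = (x : G) * (g⁻¹ * x)⁻¹ := by group
      rw [e]
      exact mul_mem h5 (inv_mem hxK)
    have h6 : V ⟨(1, y'), hZE ⟨y', hy⟩⟩ = 1 := by
      have e : (⟨(1, y'), hZE ⟨y', hy⟩⟩ : E) = (κ ⟨g, hgK⟩)⁻¹ * ⟨(g, y'), ⟨x, hx, hxK⟩⟩ := by
        ext <;> simp [κ]
      rw [e, map_mul, map_inv, hκ, inv_one, one_mul]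
      exact hwV
    rw [hVZ ⟨y', hy⟩] at h6
    have h7 : (⟨y', hy⟩ : A) = 1 := by
      apply (powCoprime hcopA).injective
      simp only [powCoprime_apply, one_pow]
      exact h6
    exact congrArg Subtype.val h7
  -- conclusion
  have hQS : Q ≤ ⁅Q, (⊤ : Subgroup P)⁆ := by
    rw [hA, Subgroup.map_eq_bot_iff, hπ, QuotientGroup.ker_mk'] at hAbot
    exact hAbot
  have hPnil : Group.IsNilpotent P := P.2.isNilpotent
  have hQbot : Q = ⊥ :=
    eq_bot_of_le_commutator_of_isNilpotent (P := ⊤) inferInstance le_top hQS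
  rw [hQ, subgroupOf_eq_bot] at hQbot
  rw [← disjoint_iff]
  exact hQbot.symm

theorem pResidual_eq_top_of_map {N : Subgroup G} :
    Cfsg.pResidual p ((Cfsg.pResidual p N).map N.subtype) = ⊤ := by
  set K := (Cfsg.pResidual p N).map N.subtype with hK
  apply Subgroup.map_injective K.subtype_injective
  rw [← MonoidHom.range_eq_map, range_subtype, pResidual_map_subtype]
  apply le_antisymm
  · rw [closure_le]; intro x hx; exact hx.1
  · conv_lhs => rw [hK, pResidual_map_subtype]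
    apply Subgroup.closure_mono
    rintro x ⟨hx, hx2⟩
    refine ⟨?_, hx2⟩
    rw [hK, pResidual_map_subtype]
    exact subset_closure ⟨hx, hx2⟩

/-- Tate's theorem. -/
theorem hasNPC_of_inf_le_frattini [Fact p.Prime] [Finite G] (P : Sylow p G) (N : Subgroup G)
    [N.Normal] (h : N ⊓ (P : Subgroup G) ≤ (frattini P).map (P : Subgroup G).subtype) :
    Cfsg.HasNormalPComplement p N := by
  rw [hasNPC_iff_disjoint (sylowInf P N)]
  set K := (Cfsg.pResidual p N).map N.subtype with hK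
  have hKn : K.Normal := by rw [hK]; infer_instance
  have h1 := tate_aux P K pResidual_eq_top_of_map (by
    intro x hx
    rw [mem_subgroupOf] at hx
    have hxN : (x : G) ∈ N := map_subtype_le _ hx
    obtain ⟨y, hy, e⟩ := h ⟨hxN, x.2⟩
    have : y = x := Subtype.ext e
    rwa [← this])
  rw [eq_bot_iff]
  rintro x ⟨hx1, hx2⟩
  have h2 : (x : G) ∈ (P : Subgroup G) ⊓ K := by
    refine ⟨?_, ⟨x, hx2, rfl⟩⟩
    have : x ∈ (sylowInf P N : Subgroup N) := hx1
    rw [sylowInf_coe, mem_subgroupOf] at this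
    exact this
  rw [h1, mem_bot] at h2
  rw [mem_bot]
  exact Subtype.ext h2

end Cfsg.Agent.Transfer
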